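import Mathlib
import Cfsg.Agent.Lib.CharTheory.ExtendChar
import Cfsg.Agent.Lib.Blocks.Defect
import Cfsg.Agent.Lib.CharTheory.Ito

/-!
A character of a normal Sylow subgroup invariant in the group has an extension fixed by all
automorphisms fixing it; characters irreducible on restriction.
-/

set_option autoImplicit false
set_option linter.style.haveILetI false

namespace Cfsg.Agent.CharTheory.NormalSylow

open Cfsg.Agent.Characters

universe u

/-- A character irreducible on restriction along a hom is irreducible. -/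
theorem isIrr_of_restrict {G H : Type u} [Group G] [Finite G] [Group H] [Finite H] (j : H →* G)
    {χ : G → ℂ} (hc : Cfsg.IsCharacter G χ) (hirr : Cfsg.IsIrrCharacter H (χ ∘ j)) :
    Cfsg.IsIrrCharacter G χ := by
  classical
  haveI := Fintype.ofFinite G
  haveI := Fintype.ofFinite H
  have hj1 : (χ ∘ j) 1 = χ 1 := by rw [Function.comp_apply, map_one]
  obtain ⟨ψ, hψ, hne⟩ := Ito.exists_constituent hc (by rw [← hj1]; exact irr_one_ne_zero hirr)
  obtain ⟨m, hm⟩ := classInner_char_nat hc (isCharacter_of_isIrr hψ)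
  have hm0 : m ≠ 0 := fun h => hne (by rw [hm, h, Nat.cast_zero])
  obtain ⟨ρ, hρ, he⟩ := Basics.eq_smul_of_degree hc hψ hm
  have hψj : Cfsg.IsCharacter H (ψ ∘ j) := isCharacter_comp j (isCharacter_of_isIrr hψ)
  have hρj : Cfsg.IsCharacter H (ρ ∘ j) := isCharacter_comp j hρ
  obtain ⟨a, ha⟩ := classInner_char_nat hψj (isCharacter_of_isIrr hirr)
  obtain ⟨b, hb⟩ := classInner_char_nat hρj (isCharacter_of_isIrr hirr)
  have he' : χ ∘ j = (m : ℂ) • (ψ ∘ j) + ρ ∘ j := by
    funext h
    simp only [Function.comp_apply, Pi.add_apply, Pi.smul_apply]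
    exact congrFun he (j h)
  have h1 : m * a + b = 1 := by
    have := classInner_isIrr_self hirr
    conv_lhs at this => arg 1; rw [he']
    rw [classInner_add_left, classInner_smul_left, ha, hb] at this
    exact_mod_cast this
  obtain ⟨d, hd⟩ := char_one_nat hψj
  obtain ⟨t, ht⟩ := char_one_nat (isCharacter_of_isIrr hirr)
  have ha0 : a ≠ 0 := by
    intro h0
    -- otherwise `ψ ∘ j` has no constituent
    obtain ⟨φ, hφ, hφne⟩ := Ito.exists_constituent hψj (by
      rw [Function.comp_apply, map_one]; exact irr_one_ne_zero hψ)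
    obtain ⟨c, hc'⟩ := classInner_char_nat hψj (isCharacter_of_isIrr hφ)
    obtain ⟨c', hc''⟩ := classInner_char_nat hρj (isCharacter_of_isIrr hφ)
    have hφχ : φ ≠ χ ∘ j := fun e => hφne (by rw [e, ha, h0, Nat.cast_zero])
    have := classInner_isIrr_ne hirr hφ (Ne.symm hφχ)
    rw [he', classInner_add_left, classInner_smul_left, hc', hc''] at this
    have h2 : m * c + c' = 0 := by exact_mod_cast this
    exact hφne (by rw [hc', show c = 0 by
      rcases Nat.mul_eq_zero.1 (show m * c = 0 by omega) with h | h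
      · exact absurd h hm0
      · exact h, Nat.cast_zero])
  have hma : m = 1 ∧ a = 1 := by
    have h4 : 1 ≤ m * a := Nat.one_le_iff_ne_zero.2 (Nat.mul_ne_zero hm0 ha0)
    have h6 : m * a = 1 := by omega
    exact ⟨Nat.eq_one_of_mul_eq_one_right h6, Nat.eq_one_of_mul_eq_one_left h6⟩
  have hdeg : t ≤ d := by
    have := Basics.degree_le hψj hirr (m := a) ha hd ht
    rw [hma.2, one_mul] at this
    exact this
  obtain ⟨r, hr⟩ := char_one_nat hρ
  have h5 : t = m * d + r := by
    have := congrFun he' 1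
    simp only [Pi.add_apply, Pi.smul_apply, smul_eq_mul, hd, ht] at this
    rw [Function.comp_apply, map_one, hr] at this
    exact_mod_cast this
  have hr0 : ρ 1 = 0 := by
    rw [hr, show r = 0 by rw [hma.1, one_mul] at h5; omega, Nat.cast_zero]
  rw [he, Basics.char_eq_zero_of_one hρ hr0, hma.1, add_zero, Nat.cast_one, one_smul]
  exact hψ

/-- The canonical extension. -/
theorem exists_canonical_extension {p : ℕ} [Fact p.Prime] {T : Type u} [Group T] [Finite T]
    (N : Subgroup T) [N.Normal] (hNp : IsPGroup p N) (hidx : ¬ p ∣ N.index) {θ : N → ℂ}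
    (hθ : Cfsg.IsIrrCharacter N θ) (hinv : ∀ g : T, Clifford.conjBy N g θ = θ) :
    ∃ e : T → ℂ, Cfsg.IsIrrCharacter T e ∧ (∀ n : N, e n = θ n) ∧
      ∀ (α : T ≃* T) (hα : ∀ n : N, α n ∈ N), (∀ n : N, θ ⟨α n, hα n⟩ = θ n) →
        ∀ t, e (α t) = e t := by
  classical
  haveI := Fintype.ofFinite T
  haveI := Fintype.ofFinite N
  have hp : p.Prime := Fact.out
  obtain ⟨a, ha⟩ := hNp.exists_card_eq
  have hcop : ∀ k, k ∣ Nat.card N → N.index.Coprime k := fun k hk => by
    obtain ⟨b, -, rfl⟩ := (Nat.dvd_prime_pow hp).1 (ha ▸ hk)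
    exact ((hp.coprime_iff_not_dvd.2 hidx).symm).pow_right b
  have hθc := isCharacter_of_isIrr hθ
  set δ := Cfsg.detChar θ with hδ
  obtain ⟨hδc, hδ1⟩ := ExtendChar.detChar_isLinear hθc
  have hδord : orderOf δ ∣ Nat.card N := by
    obtain ⟨f, hf⟩ := ExtendChar.exists_hom hδc hδ1
    refine orderOf_dvd_of_pow_eq_one (funext fun n => ?_)
    rw [Pi.pow_apply, Pi.one_apply, hδ, ← hf, ← Units.val_pow_eq_pow_val, ← map_pow,
      pow_card_eq_one', map_one, Units.val_one]
  have hδinv : ∀ (g : T) (n : N),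
      δ ⟨g * n * g⁻¹, (inferInstance : N.Normal).conj_mem (n : T) n.2 g⟩ = δ n := fun g n => by
    have h := congrFun (ExtendChar.detChar_comp (MulAut.conjNormal g : N ≃* N).toMonoidHom hθc) n
    rw [← Clifford.conjBy_eq_comp, hinv g] at h
    refine (congrArg δ (Subtype.ext ?_)).trans h.symm
    simp
  obtain ⟨μ, hμN, hμo⟩ := ExtendChar.exists_linear_extension_coprime N ⟨hδc, hδ1⟩ hδinv
    (hcop _ hδord)
  obtain ⟨hμc, hμ1⟩ := ExtendChar.hom_isLinear μ
  obtain ⟨d, hd⟩ := char_one_nat hθc
  have hdcop : N.index.Coprime d := hcop d (by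
    have h := Blocks.char_degree_dvd_card (G := N) ⟨θ, hθ⟩
    have he := Blocks.charDegree_cast (G := N) ⟨θ, hθ⟩
    change ((Cfsg.charDegree θ : ℕ) : ℂ) = θ 1 at he
    rw [hd, Nat.cast_inj] at he
    rwa [← he])
  obtain ⟨η, hη, hηN⟩ := ExtendChar.exists_extension_det N hθ hinv hd hdcop μ hμN
  obtain ⟨e, ⟨he, heN, hedet⟩, huniq⟩ := ExtendChar.existsUnique_extension_det N hθ hd hdcop hη hηN
    hμc hμ1 hμN
  refine ⟨e, he, heN, fun α hα hθα t => ?_⟩
  have hμα : (fun t => (μ (α t) : ℂ)) = fun t => (μ t : ℂ) := by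
    obtain ⟨hc2, h12⟩ := ExtendChar.hom_isLinear (μ.comp α.toMonoidHom)
    refine ExtendChar.linear_extension_unique N hμc hμ1 hc2 h12 (fun n => ?_)
      (by rw [hμo]; exact hcop _ hδord) ?_
    · show (μ (α (n : T)) : ℂ) = _
      rw [hμN n]
      refine (hμN ⟨α n, hα n⟩).trans ?_
      let αN : N →* N := (α.toMonoidHom.comp N.subtype).codRestrict N hα
      have hθ' : θ ∘ αN = θ := funext hθα
      have h := congrFun (ExtendChar.detChar_comp αN hθc) n
      rw [hθ'] at h
      exact h.symm
    · have horder : orderOf (fun t => ((μ.comp α.toMonoidHom) t : ℂ)) =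
          orderOf (fun t => (μ t : ℂ)) := by
        refine orderOf_eq_orderOf_iff.2 fun k => ⟨fun h => funext fun t => ?_,
          fun h => funext fun t => congrFun h (α t)⟩
        have := congrFun h (α.symm t)
        simpa using this
      show N.index.Coprime (orderOf fun t => ((μ.comp α.toMonoidHom) t : ℂ))
      rw [horder, hμo]
      exact hcop _ hδord
  refine congrFun (huniq (fun t => e (α t)) ⟨(isIrrCharacter_comp_mulEquiv α).2 he, fun n => ?_, ?_⟩) t
  · exact (heN ⟨α n, hα n⟩).trans (hθα n)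
  · show Cfsg.detChar (e ∘ α.toMonoidHom) = _
    rw [ExtendChar.detChar_comp α.toMonoidHom (isCharacter_of_isIrr he), hedet]
    exact hμα

end Cfsg.Agent.CharTheory.NormalSylow
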