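import Mathlib
import Cfsg.Agent.Lib.CharTheory.Average
import Cfsg.Agent.Lib.CharTheory.Clifford
import Cfsg.Agent.Lib.CharTheory.Ito
import Cfsg.Agent.Lib.Characters.Kernel

/-!
The Clifford correspondence over a character of a normal subgroup extendible to its inertia group.
-/

set_option autoImplicit false
set_option linter.style.haveILetI false

namespace Cfsg.Agent.CharTheory.NormalSylow

open Cfsg.Agent.Characters
open scoped ComplexConjugate

universe u

variable {X : Type u} [Group X] (N : Subgroup X) [hN : N.Normal] (T : Subgroup X) (e : T → ℂ)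

/-- The product of the extension with an inflated function. -/
noncomputable def prodFun (β : T ⧸ N.subgroupOf T → ℂ) : T → ℂ :=
  fun t => e t * β (QuotientGroup.mk' (N.subgroupOf T) t)

/-- The induced product. -/
noncomputable def phi [Fintype X] (β : T ⧸ N.subgroupOf T → ℂ) : X → ℂ :=
  Cfsg.indFun T (prodFun N T e β)

variable [Finite X] {θ : N → ℂ} (hθ : Cfsg.IsIrrCharacter N θ)
  (hT : ∀ g : X, g ∈ T ↔ Clifford.conjBy N g θ = θ) (hNT : N ≤ T)
  (he : Cfsg.IsIrrCharacter T e) (heN : ∀ n : N, e ⟨n, hNT n.2⟩ = θ n)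

include heN in
omit [Finite X] in
theorem prodFun_coe (β : T ⧸ N.subgroupOf T → ℂ) (n : N) :
    prodFun N T e β ⟨n, hNT n.2⟩ = β 1 * θ n := by
  rw [prodFun, heN, show QuotientGroup.mk' (N.subgroupOf T) ⟨n, hNT n.2⟩ = 1 from
    (QuotientGroup.eq_one_iff _).2 n.2, mul_comm]

include he in
theorem isCharacter_prodFun {β : T ⧸ N.subgroupOf T → ℂ}
    (hβ : Cfsg.IsCharacter (T ⧸ N.subgroupOf T) β) : Cfsg.IsCharacter T (prodFun N T e β) :=
  isCharacter_mul (isCharacter_of_isIrr he) (isCharacter_comp (QuotientGroup.mk' _) hβ)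

include hθ he heN in
theorem inner_prodFun [Fintype T] [Fintype (T ⧸ N.subgroupOf T)]
    (β β' : T ⧸ N.subgroupOf T → ℂ) :
    Cfsg.classInner (prodFun N T e β) (prodFun N T e β') = Cfsg.classInner β β' := by
  classical
  haveI := Fintype.ofFinite (N.subgroupOf T)
  set q := QuotientGroup.mk' (N.subgroupOf T)
  have heN' : Cfsg.IsIrrCharacter (N.subgroupOf T) (fun n : N.subgroupOf T => e n) := by
    have h := (isIrrCharacter_comp_mulEquiv (Subgroup.subgroupOfEquivOfLe hNT)).2 hθ
    have : (θ ∘ Subgroup.subgroupOfEquivOfLe hNT) = fun n : N.subgroupOf T => e n :=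
      funext fun n => (heN _).symm
    rwa [this] at h
  have hq : Average.avg (N.subgroupOf T) (fun t => e t * conj (e t)) = fun _ => 1 :=
    Average.quotChar_self (N.subgroupOf T) he heN'
  rw [← classInner_comp_surjective q (QuotientGroup.mk'_surjective _) β β', classInner_def,
    classInner_def]
  congr 1
  have h := Average.sum_avg_mul (N.subgroupOf T) (fun t => e t * conj (e t))
    (fun t => β (q t) * conj (β' (q t))) (fun n t => by
      rw [map_mul, show q (n : T) = 1 from (QuotientGroup.eq_one_iff _).2 n.2, one_mul])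
  rw [hq] at h
  simp only [one_mul] at h
  simp only [Function.comp_apply]
  rw [h]
  refine Finset.sum_congr rfl fun t _ => ?_
  simp only [prodFun, map_mul]
  ring

include hθ he heN in
theorem isIrr_prodFun {β : T ⧸ N.subgroupOf T → ℂ}
    (hβ : Cfsg.IsIrrCharacter (T ⧸ N.subgroupOf T) β) :
    Cfsg.IsIrrCharacter T (prodFun N T e β) := by
  haveI := Fintype.ofFinite T
  haveI := Fintype.ofFinite (T ⧸ N.subgroupOf T)
  refine isIrr_of_isCharacter_of_norm_one (isCharacter_prodFun N T e he (isCharacter_of_isIrr hβ)) ?_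
  rw [inner_prodFun N T e hθ hNT he heN, classInner_isIrr_self hβ]

include hθ heN in
theorem inner_res_prodFun [Fintype N] (β : T ⧸ N.subgroupOf T → ℂ) :
    Cfsg.classInner (fun n : N => prodFun N T e β ⟨n, hNT n.2⟩) θ = β 1 := by
  rw [show (fun n : N => prodFun N T e β ⟨n, hNT n.2⟩) = β 1 • θ from
    funext fun n => prodFun_coe N T e hNT heN β n, classInner_smul_left,
    classInner_isIrr_self hθ, mul_one]

include hθ he heN in
/-- Everything over `θ` in the inertia group is such a product. -/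
theorem exists_prodFun [Fintype N] {ψ : T → ℂ} (hψ : Cfsg.IsIrrCharacter T ψ)
    (hover : Cfsg.classInner (fun n : N => ψ ⟨n, hNT n.2⟩) θ ≠ 0) :
    ∃ β, Cfsg.IsIrrCharacter (T ⧸ N.subgroupOf T) β ∧ prodFun N T e β = ψ := by
  classical
  haveI := Fintype.ofFinite T
  haveI := Fintype.ofFinite (N.subgroupOf T)
  set eq := Subgroup.subgroupOfEquivOfLe hNT
  have heN' : Cfsg.IsIrrCharacter (N.subgroupOf T) (fun n : N.subgroupOf T => e n) := by
    have h := (isIrrCharacter_comp_mulEquiv eq).2 hθ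
    have : (θ ∘ eq) = fun n : N.subgroupOf T => e n := funext fun n => (heN _).symm
    rwa [this] at h
  have hcon : Cfsg.classInner (fun n : N.subgroupOf T => ψ n)
      (fun n : N.subgroupOf T => e n) ≠ 0 := by
    rw [← Basics.classInner_comp_equiv eq.symm]
    refine fun h => hover (Eq.trans ?_ h)
    exact congrArg₂ Cfsg.classInner rfl (funext fun n => (heN n).symm)
  obtain ⟨hirr, hmul⟩ := Average.gallagher (N.subgroupOf T) he heN' hψ hcon
  obtain ⟨β, -, hβ, hβirr⟩ := exists_deflate_quotient (N.subgroupOf T) (isCharacter_of_isIrr hirr)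
    (fun n hn => by
      have := Average.quotChar_mul_left (N.subgroupOf T) e ψ ⟨n, hn⟩ 1
      simpa using this)
  refine ⟨β, hβirr hirr, ?_⟩
  rw [← hmul]
  funext t
  rw [prodFun, Pi.mul_apply, mul_comm, QuotientGroup.mk'_apply, hβ t]

variable [Fintype X]

include hθ hT he heN in
/-- The induced product is irreducible, and its restriction has one constituent over `θ`. -/
theorem phi_spec [Fintype N] {β : T ⧸ N.subgroupOf T → ℂ}
    (hβ : Cfsg.IsIrrCharacter (T ⧸ N.subgroupOf T) β) :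
    Cfsg.IsIrrCharacter X (phi N T e β) ∧ ∃ ρ : T → ℂ, Cfsg.IsCharacter T ρ ∧
      (fun t : T => phi N T e β t) = prodFun N T e β + ρ ∧
      Cfsg.classInner (fun n : N => ρ ⟨n, hNT n.2⟩) θ = 0 := by
  classical
  haveI := Fintype.ofFinite T
  set ψ := prodFun N T e β with hψdef
  have hψ : Cfsg.IsIrrCharacter T ψ := isIrr_prodFun N T e hθ hNT he heN hβ
  have hI : Cfsg.IsCharacter X (phi N T e β) := isCharacter_indFun T (isCharacter_of_isIrr hψ)
  obtain ⟨b, hb0, hb⟩ := irr_one_pos hβ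
  obtain ⟨t, ht0, ht⟩ := irr_one_pos hθ
  have hψ1 : ψ 1 = ((b * t : ℕ) : ℂ) := by
    have := prodFun_coe N T e hNT heN β 1
    rw [hb, ht] at this
    rw [Nat.cast_mul, ← this]
    rfl
  have hI1 : phi N T e β 1 = ((T.index * (b * t) : ℕ) : ℂ) := by
    rw [phi, indFun_one, ← hψdef, hψ1, ← Nat.cast_mul]
  obtain ⟨χ, hχ, hne⟩ := Ito.exists_constituent hI (by
    rw [hI1]
    exact_mod_cast Nat.mul_ne_zero Subgroup.index_ne_zero_of_finite (Nat.mul_ne_zero hb0.ne' ht0.ne'))
  obtain ⟨m, hm⟩ := classInner_char_nat hI (isCharacter_of_isIrr hχ)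
  have hm0 : m ≠ 0 := fun h => hne (by rw [hm, h, Nat.cast_zero])
  have hχT := isCharacter_restrict T (isCharacter_of_isIrr hχ)
  have hm' : Cfsg.classInner (fun t : T => χ t) ψ = (m : ℂ) := by
    rw [← frobenius_reciprocity' T ψ (char_isClassFunction (isCharacter_of_isIrr hχ)),
      classInner_conj_symm]
    show conj (Cfsg.classInner (phi N T e β) χ) = _
    rw [hm, Complex.conj_natCast]
  obtain ⟨ρ, hρ, hdec⟩ := Basics.eq_smul_of_degree hχT hψ hm'
  obtain ⟨k, hk⟩ := classInner_char_nat (isCharacter_comp (Subgroup.inclusion hNT) hρ)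
    (isCharacter_of_isIrr hθ)
  have hk' : Cfsg.classInner (fun n : N => ρ ⟨n, hNT n.2⟩) θ = (k : ℂ) := hk
  have hres : Cfsg.classInner (fun n : N => χ n) θ = ((m * b + k : ℕ) : ℂ) := by
    have e1 : (fun n : N => χ n) = (m : ℂ) • (fun n : N => ψ ⟨n, hNT n.2⟩) +
        fun n : N => ρ ⟨n, hNT n.2⟩ := funext fun n => congrFun hdec ⟨n, hNT n.2⟩
    rw [e1, classInner_add_left, classInner_smul_left, hψdef,
      inner_res_prodFun N T e hθ hNT heN, hb, hk', Nat.cast_add, Nat.cast_mul]
  have hne2 : Cfsg.classInner (fun n : N => χ n) θ ≠ 0 := by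
    rw [hres]
    exact_mod_cast (show m * b + k ≠ 0 by
      have := Nat.mul_ne_zero hm0 hb0.ne'
      omega)
  have hχ1 : χ 1 = ((T.index * ((m * b + k) * t) : ℕ) : ℂ) := by
    have h := Clifford.card_mul_degree N hχ hθ hne2 T hT
    rw [hres, ht, ← T.card_mul_index] at h
    apply mul_left_cancel₀ (Nat.cast_ne_zero.2 (Nat.card_pos (α := T)).ne' : (Nat.card T : ℂ) ≠ 0)
    rw [h]
    push_cast
    ring
  have hle := Basics.degree_le hI hχ hm hI1 hχ1
  rw [show m * (T.index * ((m * b + k) * t)) = (T.index * t) * (m * (m * b + k)) by ring,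
    show T.index * (b * t) = (T.index * t) * b by ring] at hle
  have hle' : m * (m * b + k) ≤ b := Nat.le_of_mul_le_mul_left hle
    (Nat.mul_pos (Nat.pos_of_ne_zero Subgroup.index_ne_zero_of_finite) ht0)
  have h1 : m * b + k ≤ m * (m * b + k) := Nat.le_mul_of_pos_left _ (Nat.pos_of_ne_zero hm0)
  have h2 : b ≤ m * b := Nat.le_mul_of_pos_left _ (Nat.pos_of_ne_zero hm0)
  have hk0 : k = 0 := by omega
  have hm1 : m = 1 := Nat.eq_of_mul_eq_mul_right hb0 (by omega : m * b = 1 * b)
  have heq : phi N T e β = χ := by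
    have := Basics.eq_of_degree_eq hI hχ hm (by
      rw [hI1, hχ1, hm1, hk0, add_zero, one_mul, Nat.cast_one, one_mul])
    rw [this, hm1, Nat.cast_one, one_smul]
  refine ⟨heq ▸ hχ, ρ, hρ, ?_, by rw [hk', hk0, Nat.cast_zero]⟩
  rw [heq, hdec, hm1, Nat.cast_one, one_smul]

include hθ hT he heN in
theorem inner_res_phi [Fintype N] [Fintype T] [Fintype (T ⧸ N.subgroupOf T)]
    {β β' : T ⧸ N.subgroupOf T → ℂ}
    (hβ : Cfsg.IsIrrCharacter (T ⧸ N.subgroupOf T) β)
    (hβ' : Cfsg.IsIrrCharacter (T ⧸ N.subgroupOf T) β') :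
    Cfsg.classInner (fun t : T => phi N T e β t) (prodFun N T e β') =
      Cfsg.classInner β β' := by
  classical
  obtain ⟨-, ρ, hρ, hdec, hρ0⟩ := phi_spec N T e hθ hT hNT he heN hβ
  rw [hdec, classInner_add_left, inner_prodFun N T e hθ hNT he heN, add_eq_left]
  by_contra h0
  haveI := Fintype.ofFinite (N.subgroupOf T)
  set eq := Subgroup.subgroupOfEquivOfLe hNT
  have h := Clifford.classInner_restrict_ne_zero (N.subgroupOf T) hρ
    (isIrr_prodFun N T e hθ hNT he heN hβ') (φ := θ ∘ eq)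
    (isCharacter_comp eq.toMonoidHom (isCharacter_of_isIrr hθ)) h0 (by
      rw [← Basics.classInner_comp_equiv eq.symm]
      have hc : (θ ∘ eq) ∘ eq.symm = θ := funext fun n => congrArg θ (eq.apply_symm_apply n)
      rw [hc]
      intro hz
      refine irr_one_ne_zero hβ' ((inner_res_prodFun N T e hθ hNT heN β').symm.trans ?_)
      exact hz)
  rw [← Basics.classInner_comp_equiv eq.symm] at h
  refine h (Eq.trans ?_ hρ0)
  exact congrArg₂ Cfsg.classInner rfl (funext fun n => congrArg θ (eq.apply_symm_apply n))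

include hθ hT he heN in
theorem phi_injective [Fintype N] {β β' : T ⧸ N.subgroupOf T → ℂ}
    (hβ : Cfsg.IsIrrCharacter (T ⧸ N.subgroupOf T) β)
    (hβ' : Cfsg.IsIrrCharacter (T ⧸ N.subgroupOf T) β')
    (h : phi N T e β = phi N T e β') : β = β' := by
  haveI := Fintype.ofFinite T
  haveI := Fintype.ofFinite (T ⧸ N.subgroupOf T)
  by_contra hne
  have h1 := inner_res_phi N T e hθ hT hNT he heN hβ hβ'
  rw [classInner_isIrr_ne hβ hβ' hne, h,
    inner_res_phi N T e hθ hT hNT he heN hβ' hβ', classInner_isIrr_self hβ'] at h1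
  exact one_ne_zero h1

include hθ hT he heN in
theorem phi_over [Fintype N] {β : T ⧸ N.subgroupOf T → ℂ}
    (hβ : Cfsg.IsIrrCharacter (T ⧸ N.subgroupOf T) β) :
    Cfsg.classInner (fun n : N => phi N T e β n) θ ≠ 0 := by
  obtain ⟨-, ρ, -, hdec, hρ0⟩ := phi_spec N T e hθ hT hNT he heN hβ
  rw [show (fun n : N => phi N T e β n) = (fun n : N => prodFun N T e β ⟨n, hNT n.2⟩) +
    fun n : N => ρ ⟨n, hNT n.2⟩ from funext fun n => congrFun hdec ⟨n, hNT n.2⟩,
    classInner_add_left, hρ0, add_zero, inner_res_prodFun N T e hθ hNT heN]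
  exact irr_one_ne_zero hβ

include hθ hT he heN in
theorem exists_phi [Fintype N] {χ : X → ℂ} (hχ : Cfsg.IsIrrCharacter X χ)
    (hover : Cfsg.classInner (fun n : N => χ n) θ ≠ 0) :
    ∃ β, Cfsg.IsIrrCharacter (T ⧸ N.subgroupOf T) β ∧ phi N T e β = χ := by
  classical
  haveI := Fintype.ofFinite T
  haveI := Fintype.ofFinite (Cfsg.IrrCharacter T)
  have hχT := isCharacter_restrict T (isCharacter_of_isIrr hχ)
  have hdec := classFun_eq_sum (char_isClassFunction hχT)
  have e1 : (fun n : N => χ n) = ∑ ψ : Cfsg.IrrCharacter T,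
      Cfsg.classInner (fun t : T => χ t) (ψ : T → ℂ) • fun n : N => (ψ : T → ℂ) ⟨n, hNT n.2⟩ := by
    funext n
    have := congrFun hdec ⟨n, hNT n.2⟩
    simp only [Finset.sum_apply, Pi.smul_apply] at this ⊢
    exact this
  rw [e1, classInner_sum_left] at hover
  obtain ⟨ψ, -, hψ⟩ := Finset.exists_ne_zero_of_sum_ne_zero hover
  rw [classInner_smul_left] at hψ
  obtain ⟨β, hβ, hβψ⟩ := exists_prodFun N T e hθ hNT he heN ψ.2 (right_ne_zero_of_mul hψ)
  refine ⟨β, hβ, ?_⟩
  by_contra hne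
  refine left_ne_zero_of_mul hψ ?_
  have h := classInner_isIrr_ne hχ (phi_spec N T e hθ hT hNT he heN hβ).1 (Ne.symm hne)
  rwa [phi, hβψ, frobenius_reciprocity' T _ (char_isClassFunction (isCharacter_of_isIrr hχ))] at h

omit [Finite X] in
/-- Equivariance. -/
theorem phi_comp (α : X ≃* X) (γ : T →* T) (hγ : ∀ t : T, (γ t : X) = α t)
    (hαT : ∀ x, α x ∈ T ↔ x ∈ T) (heγ : ∀ t, e (γ t) = e t)
    (β β' : T ⧸ N.subgroupOf T → ℂ)
    (hβ : ∀ t : T, β' (QuotientGroup.mk' _ t) = β (QuotientGroup.mk' _ (γ t))) (x : X) :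
    phi N T e β (α x) = phi N T e β' x := by
  have hprod : ∀ t, prodFun N T e β (γ t) = prodFun N T e β' t := fun t => by
    rw [prodFun, prodFun, heγ, hβ]
  have hext : ∀ y : X, Cfsg.extendByZero T (prodFun N T e β) (α y) =
      Cfsg.extendByZero T (prodFun N T e β') y := by
    intro y
    by_cases hy : y ∈ T
    · rw [IndBasic.extendByZero_of_mem T _ ((hαT y).2 hy), IndBasic.extendByZero_of_mem T _ hy,
        ← hprod]
      exact congrArg _ (Subtype.ext (hγ ⟨y, hy⟩).symm)
    · rw [IndBasic.extendByZero_of_notMem T _ (fun h => hy ((hαT y).1 h)),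
        IndBasic.extendByZero_of_notMem T _ hy]
  apply mul_left_cancel₀ (Nat.cast_ne_zero.2 (Nat.card_pos (α := T)).ne' : (Nat.card T : ℂ) ≠ 0)
  rw [phi, phi, IndBasic.card_mul_indFun, IndBasic.card_mul_indFun,
    ← Equiv.sum_comp α.toEquiv]
  refine Finset.sum_congr rfl fun y _ => ?_
  rw [show α.toEquiv y = α y from rfl, ← hext]
  simp

end Cfsg.Agent.CharTheory.NormalSylow
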