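import Mathlib
import Cfsg.Agent.Lib.CharTheory.NormalSylow.Extend
import Cfsg.Agent.Lib.CharTheory.NormalSylow.Clifford
import Cfsg.Agent.BlockCharsA.GlaubermanSolvable
import Cfsg.Agent.BlockCharsA.DefectZeroVanish
import Cfsg.Agent.Lib.Blocks.Covering

/-!
The correspondence of invariant characters for a `p`-group acting on a group with a normal Sylow
`p`-subgroup.
-/

set_option autoImplicit false
set_option linter.style.haveILetI false
set_option linter.unusedSectionVars false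

namespace Cfsg.Agent.CharTheory.NormalSylow

open Cfsg.Agent.Characters Cfsg.Agent.BlockCharsA

universe u

variable {X : Type u} [Group X] {S : Type u} [Group S] [MulDistribMulAction S X]

/-- The action on the quotient by a stable normal subgroup. -/
@[reducible] def quotAct (N : Subgroup X) [N.Normal] (hNs : ∀ (s : S), ∀ x ∈ N, s • x ∈ N) :
    MulDistribMulAction S (X ⧸ N) where
  smul s q := QuotientGroup.map N N (MulDistribMulAction.toMonoidHom X s) (fun x hx => hNs s x hx) q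
  one_smul q := by
    obtain ⟨x, rfl⟩ := QuotientGroup.mk'_surjective N q
    exact congrArg (QuotientGroup.mk' N) (one_smul S x)
  mul_smul s t q := by
    obtain ⟨x, rfl⟩ := QuotientGroup.mk'_surjective N q
    exact congrArg (QuotientGroup.mk' N) (mul_smul s t x)
  smul_mul s q r := map_mul (QuotientGroup.map N N (MulDistribMulAction.toMonoidHom X s) _) q r
  smul_one s := map_one (QuotientGroup.map N N (MulDistribMulAction.toMonoidHom X s) _)

/-- A function fixed by the operators. -/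
def InvFun (S : Type u) [Group S] [MulDistribMulAction S X] (f : X → ℂ) : Prop :=
  ∀ (s : S) (g : X), f (s • g) = f g

variable [Finite X] {p : ℕ} [Fact p.Prime]

/-- An invariant character has an invariant constituent on a normal `p`-Sylow subgroup. -/
theorem exists_inv_constituent (hS : IsPGroup p S) (N : Subgroup X) [N.Normal] [Fintype N]
    (hNs : ∀ (s : S), ∀ x ∈ N, s • x ∈ N) (hidx : ¬ p ∣ N.index) {χ : X → ℂ}
    (hχ : Cfsg.IsIrrCharacter X χ) (hinv : InvFun S χ) :
    ∃ θ : N → ℂ, Cfsg.IsIrrCharacter N θ ∧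
      (∀ (s : S) (n : N), θ ⟨s • (n : X), hNs s n n.2⟩ = θ n) ∧
      Cfsg.classInner (fun n : N => χ n) θ ≠ 0 := by
  classical
  haveI := Fintype.ofFinite X
  letI := GlaubermanSolvable.restrictAct N hNs
  letI aX : MulAction X (Cfsg.IrrCharacter N) :=
    { smul := fun g θ => Blocks.conjIrr g⁻¹ θ
      one_smul := fun θ => by
        show Blocks.conjIrr (1 : X)⁻¹ θ = θ
        rw [inv_one, Blocks.conjIrr_one]
      mul_smul := fun g h θ => by
        show Blocks.conjIrr (g * h)⁻¹ θ = Blocks.conjIrr g⁻¹ (Blocks.conjIrr h⁻¹ θ)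
        rw [Blocks.conjIrr_conjIrr, mul_inv_rev] }
  let O := {θ : Cfsg.IrrCharacter N // Cfsg.classInner (fun n : N => χ n) (θ : N → ℂ) ≠ 0}
  obtain ⟨θ₀, hθ₀, hne⟩ := Ito.exists_constituent (isCharacter_restrict N (isCharacter_of_isIrr hχ))
    (by simpa using irr_one_ne_zero hχ)
  have horb : MulAction.orbit X (⟨θ₀, hθ₀⟩ : Cfsg.IrrCharacter N) =
      {θ : Cfsg.IrrCharacter N | Cfsg.classInner (fun n : N => χ n) (θ : N → ℂ) ≠ 0} := by
    ext θ
    constructor
    · rintro ⟨g, rfl⟩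
      show Cfsg.classInner (fun n : N => χ n) (Clifford.conjBy N g⁻¹ θ₀) ≠ 0
      rwa [Clifford.classInner_restrict_conjBy N (char_isClassFunction (isCharacter_of_isIrr hχ))]
    · intro hθ
      obtain ⟨g, hg⟩ := Clifford.exists_conjBy_eq N hχ hθ₀ θ.2 hne hθ
      refine ⟨g⁻¹, ?_⟩
      show Blocks.conjIrr g⁻¹⁻¹ _ = θ
      rw [inv_inv]
      exact Subtype.ext hg
  have hcard : ¬ p ∣ Nat.card O := by
    intro hd
    apply hidx
    refine hd.trans ?_
    have h1 : Nat.card O = (MulAction.stabilizer X (⟨θ₀, hθ₀⟩ : Cfsg.IrrCharacter N)).index := by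
      rw [MulAction.index_stabilizer, horb, ← Nat.card_coe_set_eq]
      rfl
    rw [h1]
    refine Subgroup.index_dvd_of_le fun n hn => ?_
    rw [MulAction.mem_stabilizer_iff]
    refine Subtype.ext ?_
    show Clifford.conjBy N n⁻¹ θ₀ = θ₀
    funext m
    rw [Clifford.conjBy_apply]
    have := char_isClassFunction (isCharacter_of_isIrr hθ₀) m ⟨n⁻¹, N.inv_mem hn⟩
    exact this
  letI : MulAction S O :=
    { smul := fun s θ => ⟨Glauberman.twist N s⁻¹ θ.1, by
        refine fun h => θ.2 (Eq.trans ?_ h)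
        rw [classInner_def, classInner_def]
        congr 1
        refine Fintype.sum_equiv (MulDistribMulAction.toMulEquiv N s).toEquiv _ _ fun n => ?_
        show χ n * (starRingEnd ℂ) ((θ.1 : N → ℂ) n) =
          χ (s • (n : X)) * (starRingEnd ℂ) ((θ.1 : N → ℂ) (s⁻¹ • (s • n)))
        rw [inv_smul_smul, hinv]⟩
      one_smul := fun θ => Subtype.ext (Subtype.ext (funext fun n => by
        show (θ.1 : N → ℂ) ((1 : S)⁻¹ • n) = _
        rw [inv_one, one_smul]))
      mul_smul := fun s t θ => Subtype.ext (Subtype.ext (funext fun n => by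
        show (θ.1 : N → ℂ) ((s * t)⁻¹ • n) = (θ.1 : N → ℂ) (t⁻¹ • (s⁻¹ • n))
        rw [mul_inv_rev, mul_smul])) }
  obtain ⟨θ, hθ⟩ := hS.nonempty_fixed_point_of_prime_not_dvd_card O hcard
  refine ⟨θ.1, θ.1.2, fun s n => ?_, θ.2⟩
  have h := congrFun (congrArg (fun z : O => (z.1 : N → ℂ)) (hθ s⁻¹)) n
  have h2 : (θ.1 : N → ℂ) (s⁻¹⁻¹ • n) = (θ.1 : N → ℂ) n := h
  rw [inv_inv] at h2
  exact h2

/-- The inertia group. -/
def inertia (N : Subgroup X) [N.Normal] (θ : N → ℂ) : Subgroup X where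
  carrier := {g | Clifford.conjBy N g θ = θ}
  one_mem' := Clifford.conjBy_one N θ
  mul_mem' {a b} ha hb := by
    show Clifford.conjBy N (a * b) θ = θ
    rw [← Clifford.conjBy_conjBy, show Clifford.conjBy N a θ = θ from ha]
    exact hb
  inv_mem' {a} ha := by
    show Clifford.conjBy N a⁻¹ θ = θ
    conv_lhs => rw [← show Clifford.conjBy N a θ = θ from ha]
    rw [Clifford.conjBy_conjBy, mul_inv_cancel, Clifford.conjBy_one]

variable {C : Type u} [Group C] [Finite C] [MulDistribMulAction S C] (j : C →* X)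
  (hinj : Function.Injective j) (hje : ∀ (s : S) (c : C), j (s • c) = s • j c)
  (N : Subgroup X) [N.Normal] (hNs : ∀ (s : S), ∀ x ∈ N, s • x ∈ N)
  (hfix : ∀ x : X, (∃ c, j c = x) ↔ ∀ s : S, (s • x) * x⁻¹ ∈ N)
  [Finite S]
  (hS : IsPGroup p S) (hNp : IsPGroup p N) (hidx : ¬ p ∣ N.index)

include hfix in
theorem mem_range_of_mem (hNs : ∀ (s : S), ∀ x ∈ N, s • x ∈ N) {x : X} (hx : x ∈ N) :
    ∃ c, j c = x :=
  (hfix x).2 fun s => N.mul_mem (hNs s x hx) (N.inv_mem hx)

include hje hNs in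
theorem comap_stable : ∀ (s : S), ∀ c ∈ N.comap j, s • c ∈ N.comap j := fun s c hc => by
  rw [Subgroup.mem_comap, hje]
  exact hNs s _ hc

include hidx in
theorem comap_index : ¬ p ∣ (N.comap j).index := fun h => hidx (h.trans (by
  rw [Subgroup.index_comap]
  exact Subgroup.relIndex_dvd_index_of_normal N j.range))

include hS hidx hfix hNs in
/-- Invariant characters of the Sylow subgroup conjugate in the group are conjugate under fixed
points. -/
theorem exists_conj_fixed {θ θ' : N → ℂ}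
    (hθ : ∀ (s : S) (n : N), θ ⟨s • (n : X), hNs s n n.2⟩ = θ n)
    (hθ' : ∀ (s : S) (n : N), θ' ⟨s • (n : X), hNs s n n.2⟩ = θ' n)
    (hcl : Cfsg.IsClassFunction N θ) {g : X} (hg : Clifford.conjBy N g θ = θ') :
    ∃ c : C, Clifford.conjBy N (j c) θ = θ' := by
  classical
  letI := quotAct N hNs
  set T := inertia N θ with hT
  have hNT : N ≤ T := fun n hn => funext fun m => by
    rw [Clifford.conjBy_apply]
    exact hcl m ⟨n, hn⟩
  set Tq := T.map (QuotientGroup.mk' N) with hTq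
  have hs : ∀ (s : S), s • g * g⁻¹ ∈ T := by
    intro s
    have h1 : Clifford.conjBy N (s • g) θ = θ' := funext fun n => by
      have hm : g * (s⁻¹ • (n : X)) * g⁻¹ ∈ N :=
        (inferInstance : N.Normal).conj_mem _ (hNs _ _ n.2) g
      have e : (⟨s • g * (n : X) * (s • g)⁻¹, (inferInstance : N.Normal).conj_mem _ n.2 _⟩ : N) =
          ⟨s • (g * (s⁻¹ • (n : X)) * g⁻¹), hNs s _ hm⟩ :=
        Subtype.ext (by simp [smul_mul', smul_inv', smul_inv_smul])
      rw [Clifford.conjBy_apply, e]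
      refine (hθ s ⟨_, hm⟩).trans ?_
      have h2 := congrFun hg ⟨s⁻¹ • (n : X), hNs _ _ n.2⟩
      rw [Clifford.conjBy_apply] at h2
      exact h2.trans (hθ' s⁻¹ n)
    show Clifford.conjBy N (s • g * g⁻¹) θ = θ
    rw [← Clifford.conjBy_conjBy, h1, ← hg, Clifford.conjBy_conjBy, mul_inv_cancel,
      Clifford.conjBy_one]
  have hTs : ∀ (s : S), ∀ t ∈ T, s • t ∈ T := fun s t ht => funext fun n => by
    have hm : t * (s⁻¹ • (n : X)) * t⁻¹ ∈ N :=
      (inferInstance : N.Normal).conj_mem _ (hNs _ _ n.2) t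
    have e : (⟨s • t * (n : X) * (s • t)⁻¹, (inferInstance : N.Normal).conj_mem _ n.2 _⟩ : N) =
        ⟨s • (t * (s⁻¹ • (n : X)) * t⁻¹), hNs s _ hm⟩ :=
      Subtype.ext (by simp [smul_mul', smul_inv', smul_inv_smul])
    rw [Clifford.conjBy_apply, e]
    refine (hθ s ⟨_, hm⟩).trans ?_
    have h2 := congrFun (show Clifford.conjBy N t θ = θ from ht) ⟨s⁻¹ • (n : X), hNs _ _ n.2⟩
    rw [Clifford.conjBy_apply] at h2
    exact h2.trans (hθ s⁻¹ n)
  let Y := {y : X ⧸ N // y * (QuotientGroup.mk' N g)⁻¹ ∈ Tq}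
  have hY : ¬ p ∣ Nat.card Y := by
    intro h
    apply hidx
    refine h.trans ?_
    rw [show Nat.card Y = Nat.card Tq from
      Nat.card_congr ((Equiv.mulRight (QuotientGroup.mk' N g)⁻¹).subtypeEquiv fun y => Iff.rfl),
      Subgroup.index_eq_card]
    exact Subgroup.card_subgroup_dvd_card _
  letI : MulAction S Y :=
    { smul := fun s y => ⟨s • y.1, by
        obtain ⟨t, ht, he⟩ := y.2
        have hy : y.1 = QuotientGroup.mk' N (t * g) := by
          rw [map_mul, he, inv_mul_cancel_right]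
        refine ⟨s • t * (s • g * g⁻¹), T.mul_mem (hTs s t ht) (hs s), ?_⟩
        rw [hy, show s • QuotientGroup.mk' N (t * g) = QuotientGroup.mk' N (s • (t * g)) from rfl,
          ← map_inv, ← map_mul, smul_mul', mul_assoc]⟩
      one_smul := fun y => Subtype.ext (one_smul S y.1)
      mul_smul := fun s t y => Subtype.ext (mul_smul s t y.1) }
  obtain ⟨y, hy⟩ := hS.nonempty_fixed_point_of_prime_not_dvd_card Y hY
  obtain ⟨t, ht, he⟩ := y.2
  have hy1 : y.1 = QuotientGroup.mk' N (t * g) := by rw [map_mul, he, inv_mul_cancel_right]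
  obtain ⟨c, hc⟩ := (hfix (t * g)).2 fun s => by
    have h := congrArg Subtype.val (hy s)
    change s • y.1 = y.1 at h
    rw [hy1] at h
    change QuotientGroup.mk' N (s • (t * g)) = QuotientGroup.mk' N (t * g) at h
    rw [← QuotientGroup.eq_one_iff]
    show QuotientGroup.mk' N (s • (t * g) * (t * g)⁻¹) = 1
    rw [map_mul, h, map_inv, mul_inv_cancel]
  refine ⟨c, ?_⟩
  rw [hc, ← Clifford.conjBy_conjBy, show Clifford.conjBy N t θ = θ from ht, hg]

section Local

variable [Fintype X] [Fintype C] (θ : N → ℂ) (hθ : Cfsg.IsIrrCharacter N θ)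
  (hθs : ∀ (s : S) (n : N), θ ⟨s • (n : X), hNs s n n.2⟩ = θ n)
  (T : Subgroup X) (hT : ∀ g : X, g ∈ T ↔ Clifford.conjBy N g θ = θ) (hNT : N ≤ T)
  (hTs : ∀ (s : S), ∀ t ∈ T, s • t ∈ T)
  (e : T → ℂ) (he : Cfsg.IsIrrCharacter T e) (heN : ∀ n : N, e ⟨n, hNT n.2⟩ = θ n)
  (hes : ∀ (s : S) (t : T), e ⟨s • (t : X), hTs s t t.2⟩ = e t)

/-- The character of `N` seen in `C`. -/
def thetaC : N.comap j → ℂ := fun n => θ ⟨j n, n.2⟩

/-- The extension seen in `C`. -/
def extC : T.comap j → ℂ := fun t => e ⟨j t, t.2⟩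

/-- The map between the inertia quotients. -/
def iota : T.comap j ⧸ (N.comap j).subgroupOf (T.comap j) →* T ⧸ N.subgroupOf T :=
  QuotientGroup.map _ _ (j.subgroupComap T)
    (show (N.comap j).subgroupOf (T.comap j) ≤ (N.subgroupOf T).comap (j.subgroupComap T) from
      fun _ h => h)

theorem iota_mk (t : T.comap j) :
    iota j N T (QuotientGroup.mk' _ t) = QuotientGroup.mk' _ (j.subgroupComap T t) := rfl

theorem iota_injective : Function.Injective (iota j N T) := by
  rw [← MonoidHom.ker_eq_bot_iff, eq_bot_iff]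
  intro q hq
  obtain ⟨t, rfl⟩ := QuotientGroup.mk'_surjective _ q
  rw [MonoidHom.mem_ker, iota_mk] at hq
  rw [Subgroup.mem_bot]
  have h1 := (QuotientGroup.eq_one_iff _).1 hq
  exact (QuotientGroup.eq_one_iff t).2 h1

include hfix in
theorem iota_fix (g : T ⧸ N.subgroupOf T) :
    (∃ q, iota j N T q = g) ↔
      (letI := GlaubermanSolvable.restrictAct T hTs
       letI := quotAct (N.subgroupOf T) (fun (s : S) t ht => hNs s (t : X) ht)
       ∀ s : S, s • g = g) := by
  letI := GlaubermanSolvable.restrictAct T hTs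
  letI := quotAct (N.subgroupOf T) (fun (s : S) t ht => hNs s (t : X) ht)
  obtain ⟨t, rfl⟩ := QuotientGroup.mk'_surjective _ g
  constructor
  · rintro ⟨q, hq⟩ s
    obtain ⟨d, rfl⟩ := QuotientGroup.mk'_surjective _ q
    rw [← hq, iota_mk]
    show QuotientGroup.mk' (N.subgroupOf T) (s • (j.subgroupComap T d)) =
      QuotientGroup.mk' (N.subgroupOf T) (j.subgroupComap T d)
    rw [QuotientGroup.mk'_apply, QuotientGroup.mk'_apply, QuotientGroup.eq_iff_div_mem,
      Subgroup.mem_subgroupOf, div_eq_mul_inv, Subgroup.coe_mul, Subgroup.coe_inv]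
    exact (hfix (j d)).1 ⟨d, rfl⟩ s
  · intro h
    obtain ⟨c, hc⟩ := (hfix (t : X)).2 fun s => by
      have h1 : QuotientGroup.mk' (N.subgroupOf T) (s • t) = QuotientGroup.mk' _ t := h s
      rw [QuotientGroup.mk'_apply, QuotientGroup.mk'_apply, QuotientGroup.eq_iff_div_mem,
        Subgroup.mem_subgroupOf, div_eq_mul_inv, Subgroup.coe_mul, Subgroup.coe_inv] at h1
      exact h1
    refine ⟨QuotientGroup.mk' _ ⟨c, show j c ∈ T by rw [hc]; exact t.2⟩, ?_⟩
    exact congrArg (QuotientGroup.mk' (N.subgroupOf T)) (Subtype.ext hc)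

include hinj hfix hNs hθ hT in
theorem local_C : Cfsg.IsIrrCharacter (N.comap j) (thetaC j N θ) ∧
    (∀ c : C, c ∈ T.comap j ↔ Clifford.conjBy (N.comap j) c (thetaC j N θ) = thetaC j N θ) := by
  have hbij : Function.Bijective (j.subgroupComap N) := by
    refine ⟨fun a b h => Subtype.ext (hinj (congrArg Subtype.val h)), fun n => ?_⟩
    obtain ⟨c, hc⟩ := mem_range_of_mem j N hfix hNs n.2
    exact ⟨⟨c, show j c ∈ N by rw [hc]; exact n.2⟩, Subtype.ext hc⟩
  refine ⟨(isIrrCharacter_comp_mulEquiv (MulEquiv.ofBijective _ hbij)).2 hθ, fun c => ?_⟩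
  rw [Subgroup.mem_comap, hT]
  constructor
  · intro h
    funext n
    rw [Clifford.conjBy_apply]
    refine Eq.trans ?_ (congrFun h ⟨j n, n.2⟩)
    rw [Clifford.conjBy_apply]
    exact congrArg θ (Subtype.ext (by simp))
  · intro h
    funext n
    obtain ⟨m, rfl⟩ := hbij.2 n
    refine Eq.trans ?_ (congrFun h m)
    rw [Clifford.conjBy_apply, Clifford.conjBy_apply]
    exact congrArg θ (Subtype.ext (by simp; rfl))

include hinj hfix hNs hθ hT hNT he heN in
theorem extC_spec : N.comap j ≤ T.comap j ∧ Cfsg.IsIrrCharacter (T.comap j) (extC j T e) ∧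
    ∀ (h : N.comap j ≤ T.comap j) (n : N.comap j), extC j T e ⟨n, h n.2⟩ = thetaC j N θ n := by
  have hle : N.comap j ≤ T.comap j := Subgroup.comap_mono hNT
  refine ⟨hle, ?_, fun _ n => heN ⟨j n, n.2⟩⟩
  refine isIrr_of_restrict (Subgroup.inclusion hle)
    (isCharacter_comp (j.subgroupComap T) (isCharacter_of_isIrr he)) ?_
  have hθC := (local_C j hinj N hNs hfix θ hθ T hT).1
  have e1 : (extC j T e ∘ Subgroup.inclusion hle) = thetaC j N θ :=
    funext fun n => heN ⟨j n, n.2⟩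
  exact e1 ▸ hθC

include hinj hfix hNs hθ hT hNT he heN in
/-- The multiplicities reduce to the inertia quotient. -/
theorem inner_phi_C [Fintype N] [Fintype (N.comap j)] [Fintype (T.comap j)]
    [Fintype (T.comap j ⧸ (N.comap j).subgroupOf (T.comap j))]
    {β : T ⧸ N.subgroupOf T → ℂ} (hβ : Cfsg.IsIrrCharacter (T ⧸ N.subgroupOf T) β)
    {β' : T.comap j ⧸ (N.comap j).subgroupOf (T.comap j) → ℂ}
    (hβ' : Cfsg.IsIrrCharacter (T.comap j ⧸ (N.comap j).subgroupOf (T.comap j)) β') :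
    Cfsg.classInner (fun c : C => phi N T e β (j c))
        (phi (N.comap j) (T.comap j) (extC j T e) β') =
      Cfsg.classInner (fun q => β (iota j N T q)) β' := by
  classical
  obtain ⟨hθC, hTC⟩ := local_C j hinj N hNs hfix θ hθ T hT
  obtain ⟨hle, heC, heCN⟩ := extC_spec j hinj N hNs hfix θ hθ T hT hNT e he heN
  obtain ⟨hirr, ρ, hρ, hdec, hρ0⟩ := phi_spec N T e hθ hT hNT he heN hβ
  have hcl : Cfsg.IsClassFunction C (fun c : C => phi N T e β (j c)) :=
    classFun_comp j (char_isClassFunction (isCharacter_of_isIrr hirr))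
  rw [show Cfsg.classInner (fun c : C => phi N T e β (j c))
      (phi (N.comap j) (T.comap j) (extC j T e) β') =
    Cfsg.classInner (fun t : T.comap j => phi N T e β (j t))
      (prodFun (N.comap j) (T.comap j) (extC j T e) β') from
    frobenius_reciprocity' (T.comap j) _ hcl]
  have e1 : (fun t : T.comap j => phi N T e β (j t)) =
      prodFun (N.comap j) (T.comap j) (extC j T e) (fun q => β (iota j N T q)) +
        fun t : T.comap j => ρ (j.subgroupComap T t) := by
    funext t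
    exact congrFun hdec (j.subgroupComap T t)
  rw [e1, classInner_add_left, inner_prodFun _ _ _ hθC hle heC (heCN hle), add_eq_left]
  by_contra h0
  haveI := Fintype.ofFinite ((N.comap j).subgroupOf (T.comap j))
  set eq := Subgroup.subgroupOfEquivOfLe hle with heq
  have h := Clifford.classInner_restrict_ne_zero ((N.comap j).subgroupOf (T.comap j))
    (isCharacter_comp (j.subgroupComap T) hρ)
    (isIrr_prodFun _ _ _ hθC hle heC (heCN hle) hβ') (φ := thetaC j N θ ∘ eq)
    (isCharacter_comp eq.toMonoidHom (isCharacter_of_isIrr hθC)) h0 (by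
      rw [← Basics.classInner_comp_equiv eq.symm]
      have hc : (thetaC j N θ ∘ eq) ∘ eq.symm = thetaC j N θ :=
        funext fun n => congrArg _ (eq.apply_symm_apply n)
      rw [hc]
      intro hz
      refine irr_one_ne_zero hβ'
        ((inner_res_prodFun _ _ _ hθC hle (heCN hle) β').symm.trans ?_)
      exact hz)
  rw [← Basics.classInner_comp_equiv eq.symm] at h
  refine h (Eq.trans ?_ hρ0)
  have hbij : Function.Bijective (j.subgroupComap N) := by
    refine ⟨fun a b h => Subtype.ext (hinj (congrArg Subtype.val h)), fun n => ?_⟩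
    obtain ⟨c, hc⟩ := mem_range_of_mem j N hfix hNs n.2
    exact ⟨⟨c, show j c ∈ N by rw [hc]; exact n.2⟩, Subtype.ext hc⟩
  rw [← Basics.classInner_comp_equiv (MulEquiv.ofBijective _ hbij) (fun n : N => ρ ⟨n, hNT n.2⟩) θ]
  exact congrArg₂ Cfsg.classInner rfl
    (funext fun n => congrArg (thetaC j N θ) (eq.apply_symm_apply n))

include hinj hje hfix hNs hθ hT hNT he heN hes in
theorem phiC_inv {β' : T.comap j ⧸ (N.comap j).subgroupOf (T.comap j) → ℂ} :
    InvFun S (phi (N.comap j) (T.comap j) (extC j T e) β') := by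
  intro s c
  have hmem : ∀ d : C, s • d * d⁻¹ ∈ N.comap j := fun d => by
    rw [Subgroup.mem_comap, map_mul, map_inv, hje]
    exact (hfix (j d)).1 ⟨d, rfl⟩ s
  have hiff : ∀ d : C, s • d ∈ T.comap j ↔ d ∈ T.comap j := fun d => by
    have := (T.comap j).mul_mem_cancel_left (y := d) (Subgroup.comap_mono hNT (hmem d))
    rwa [inv_mul_cancel_right] at this
  let γ : T.comap j →* T.comap j :=
    ((MulDistribMulAction.toMonoidHom C s).comp (T.comap j).subtype).codRestrict _
      fun t => (hiff t).2 t.2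
  refine phi_comp (N.comap j) (T.comap j) (extC j T e) (MulDistribMulAction.toMulEquiv C s) γ
    (fun t => rfl) hiff (fun t => ?_) β' β' (fun t => ?_) c
  · refine Eq.trans ?_ (hes s ⟨j t, t.2⟩)
    exact congrArg e (Subtype.ext (hje s t))
  · congr 1
    rw [eq_comm, QuotientGroup.mk'_apply, QuotientGroup.mk'_apply, QuotientGroup.eq_iff_div_mem,
      Subgroup.mem_subgroupOf, div_eq_mul_inv, Subgroup.coe_mul, Subgroup.coe_inv]
    exact hmem t

include hNs hidx in
theorem index_subgroupOf : ¬ p ∣ (N.subgroupOf T).index := fun h =>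
  hidx (h.trans (Subgroup.relIndex_dvd_index_of_normal N T))

include hinj hje hfix hNs hS hNp hidx hθ hθs hT hNT hTs he heN hes in
/-- The correspondence over one invariant character of the Sylow subgroup. -/
theorem local_corr {M : Ideal Cfsg.AlgInt} (hM : Cfsg.IsPModular p M) [Fintype N]
    {χ : X → ℂ} (hχ : Cfsg.IsIrrCharacter X χ) (hinv : InvFun S χ)
    (hover : Cfsg.classInner (fun n : N => χ n) θ ≠ 0) :
    ∃ (β : Cfsg.IrrCharacter (T ⧸ N.subgroupOf T))
      (β₀ : Cfsg.IrrCharacter (T.comap j ⧸ (N.comap j).subgroupOf (T.comap j))),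
      χ = phi N T e (β : T ⧸ N.subgroupOf T → ℂ) ∧
      Glauberman.Corr (iota j N T) M β β₀ ∧
      (letI := GlaubermanSolvable.restrictAct T hTs
       letI := quotAct (N.subgroupOf T) (fun (s : S) t ht => hNs s (t : X) ht)
       Glauberman.IsInv S β) := by
  classical
  letI := GlaubermanSolvable.restrictAct T hTs
  letI := quotAct (N.subgroupOf T) (fun (s : S) t ht => hNs s (t : X) ht)
  obtain ⟨β, hβ, rfl⟩ := exists_phi N T e hθ hT hNT he heN hχ hover
  have hβinv : Glauberman.IsInv S (⟨β, hβ⟩ : Cfsg.IrrCharacter (T ⧸ N.subgroupOf T)) := by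
    intro s q
    set β' : T ⧸ N.subgroupOf T → ℂ := fun r => β (s • r)
    have hβ' : Cfsg.IsIrrCharacter (T ⧸ N.subgroupOf T) β' :=
      (isIrrCharacter_comp_mulEquiv (MulDistribMulAction.toMulEquiv (T ⧸ N.subgroupOf T) s)).2 hβ
    have h : phi N T e β = phi N T e β' := funext fun x => by
      rw [← hinv s x]
      refine phi_comp N T e (MulDistribMulAction.toMulEquiv X s)
        (MulDistribMulAction.toMonoidHom T s) (fun t => rfl) (fun y => ⟨fun hy => ?_, hTs s y⟩)
        (fun t => hes s t) β β' (fun t => rfl) x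
      have := hTs s⁻¹ _ hy
      rwa [show MulDistribMulAction.toMulEquiv X s y = s • y from rfl, inv_smul_smul] at this
    exact congrFun (phi_injective N T e hθ hT hNT he heN hβ hβ' h).symm q
  obtain ⟨β₀, h₀⟩ := Glauberman.exists_corr (iota j N T) (iota_injective j N T)
    (iota_fix j N hNs hfix T hTs)
    hM hS (index_subgroupOf N hNs hidx T ∘ fun h => by rwa [Subgroup.index_eq_card]) hβinv
  exact ⟨⟨β, hβ⟩, β₀, rfl, h₀, hβinv⟩

include hinj hje hfix hNs hS hNp hidx hθ hθs hT hNT hTs he heN hes in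
/-- The multiplicity pattern. -/
theorem rel_of_corr {M : Ideal Cfsg.AlgInt} (hM : Cfsg.IsPModular p M) [Fintype N]
    {β : Cfsg.IrrCharacter (T ⧸ N.subgroupOf T)}
    {β₀ : Cfsg.IrrCharacter (T.comap j ⧸ (N.comap j).subgroupOf (T.comap j))}
    (hcorr : Glauberman.Corr (iota j N T) M β β₀)
    {η : C → ℂ} (hη : Cfsg.IsIrrCharacter C η) (hηinv : InvFun S η) {m : ℕ}
    (hm : Cfsg.classInner (fun c : C => phi N T e (β : T ⧸ N.subgroupOf T → ℂ) (j c)) η = (m : ℂ)) :
    (η ≠ phi (N.comap j) (T.comap j) (extC j T e) (β₀ : _ → ℂ) → p ∣ m) ∧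
    (η = phi (N.comap j) (T.comap j) (extC j T e) (β₀ : _ → ℂ) →
      (m : ℤ) ≡ 1 [ZMOD p] ∨ (m : ℤ) ≡ -1 [ZMOD p]) := by
  classical
  haveI := Fintype.ofFinite (N.comap j)
  haveI := Fintype.ofFinite (T.comap j)
  haveI := Fintype.ofFinite (T.comap j ⧸ (N.comap j).subgroupOf (T.comap j))
  obtain ⟨hθC, hTC⟩ := local_C j hinj N hNs hfix θ hθ T hT
  obtain ⟨hle, heC, heCN⟩ := extC_spec j hinj N hNs hfix θ hθ T hT hNT e he heN
  letI := GlaubermanSolvable.restrictAct T hTs
  letI := quotAct (N.subgroupOf T) (fun (s : S) t ht => hNs s (t : X) ht)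
  have hcase : ∀ {β' : T.comap j ⧸ (N.comap j).subgroupOf (T.comap j) → ℂ},
      Cfsg.IsIrrCharacter _ β' → η = phi (N.comap j) (T.comap j) (extC j T e) β' →
      (η ≠ phi (N.comap j) (T.comap j) (extC j T e) (β₀ : _ → ℂ) → p ∣ m) ∧
      (η = phi (N.comap j) (T.comap j) (extC j T e) (β₀ : _ → ℂ) →
        (m : ℤ) ≡ 1 [ZMOD p] ∨ (m : ℤ) ≡ -1 [ZMOD p]) := by
    intro β' hβ' hη'
    rw [hη', inner_phi_C j hinj N hNs hfix θ hθ T hT hNT e he heN β.2 hβ'] at hm
    obtain ⟨h1, h2⟩ := Glauberman.mult (iota j N T) (S := S) (iota_injective j N T)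
      (iota_fix j N hNs hfix T hTs)
      hM hS (index_subgroupOf N hNs hidx T ∘ fun h => by rwa [Subgroup.index_eq_card]) hcorr
      ⟨β', hβ'⟩ hm
    refine ⟨fun hne => h1 fun hb => hne ?_, fun heq => h2 (Subtype.ext ?_)⟩
    · rw [hη', show β' = (β₀ : _ → ℂ) from congrArg Subtype.val hb]
    · exact phi_injective (N.comap j) (T.comap j) (extC j T e) hθC hTC hle heC (heCN hle) hβ' β₀.2
        (hη'.symm.trans heq)
  by_cases hover : Cfsg.classInner (fun n : N.comap j => η n) (thetaC j N θ) ≠ 0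
  · obtain ⟨β', hβ', hη'⟩ := exists_phi (N.comap j) (T.comap j) (extC j T e) hθC hTC hle heC
      (heCN hle) hη hover
    exact hcase hβ' hη'.symm
  refine ⟨fun _ => ?_, fun heq => (hcase β₀.2 heq).2 heq⟩
  push Not at hover
  suffices m = 0 by rw [this]; exact dvd_zero p
  by_contra hm0
  obtain ⟨φ, hφ, hφs, hφη⟩ := exists_inv_constituent hS (N.comap j) (comap_stable j hje N hNs)
    (comap_index j N hidx) hη hηinv
  obtain ⟨hirr, -⟩ := phi_spec N T e hθ hT hNT he heN β.2
  have hχN := Clifford.classInner_restrict_ne_zero (N.comap j)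
    (isCharacter_comp j (isCharacter_of_isIrr hirr)) hη (isCharacter_of_isIrr hφ)
    (show Cfsg.classInner (phi N T e (β : T ⧸ N.subgroupOf T → ℂ) ∘ j) η ≠ 0 by
      rw [show (phi N T e (β : T ⧸ N.subgroupOf T → ℂ) ∘ j) =
        fun c : C => phi N T e (β : T ⧸ N.subgroupOf T → ℂ) (j c) from rfl, hm]
      exact_mod_cast hm0) hφη
  have hbij : Function.Bijective (j.subgroupComap N) := by
    refine ⟨fun a b h => Subtype.ext (hinj (congrArg Subtype.val h)), fun n => ?_⟩
    obtain ⟨c, hc⟩ := mem_range_of_mem j N hfix hNs n.2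
    exact ⟨⟨c, show j c ∈ N by rw [hc]; exact n.2⟩, Subtype.ext hc⟩
  set E := MulEquiv.ofBijective _ hbij with hE
  set φ' : N → ℂ := fun n => φ (E.symm n) with hφ'
  have hφ'i : Cfsg.IsIrrCharacter N φ' := (isIrrCharacter_comp_mulEquiv E.symm).2 hφ
  have hφ's : ∀ (s : S) (n : N), φ' ⟨s • (n : X), hNs s n n.2⟩ = φ' n := by
    intro s n
    obtain ⟨a, rfl⟩ := E.surjective n
    have e1 : (⟨s • ((E a : N) : X), hNs s _ (E a).2⟩ : N) =
        E ⟨s • (a : C), comap_stable j hje N hNs s a a.2⟩ := Subtype.ext (hje s a).symm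
    rw [e1, hφ']
    simp only [MulEquiv.symm_apply_apply]
    exact hφs s a
  have h4 : Cfsg.classInner (fun n : N => phi N T e (β : T ⧸ N.subgroupOf T → ℂ) n) φ' ≠ 0 := by
    rw [← Basics.classInner_comp_equiv E]
    refine fun h => hχN (Eq.trans ?_ h)
    exact congrArg₂ Cfsg.classInner rfl (funext fun a => congrArg φ (E.symm_apply_apply a).symm)
  obtain ⟨g, hg⟩ := Clifford.exists_conjBy_eq N hirr hθ hφ'i
    (phi_over N T e hθ hT hNT he heN β.2) h4
  obtain ⟨c, hc⟩ := exists_conj_fixed j N hNs hfix hS hidx hθs hφ's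
    (char_isClassFunction (isCharacter_of_isIrr hθ)) hg
  apply hφη
  have e2 : φ = Clifford.conjBy (N.comap j) c (thetaC j N θ) := by
    funext a
    have h := congrFun hc (E a)
    rw [hφ'] at h
    simp only [MulEquiv.symm_apply_apply] at h
    rw [← h, Clifford.conjBy_apply, Clifford.conjBy_apply]
    exact congrArg θ (Subtype.ext (by simp [hE]; rfl))
  rw [e2, Clifford.classInner_restrict_conjBy _ (char_isClassFunction (isCharacter_of_isIrr hη))]
  exact hover

end Local

include hNs hNp hidx in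
/-- Data over an invariant character of the Sylow subgroup. -/
theorem exists_setup {θ : N → ℂ} (hθ : Cfsg.IsIrrCharacter N θ)
    (hθs : ∀ (s : S) (n : N), θ ⟨s • (n : X), hNs s n n.2⟩ = θ n) :
    ∃ (T : Subgroup X) (hNT : N ≤ T) (hTs : ∀ (s : S), ∀ t ∈ T, s • t ∈ T) (e : T → ℂ),
      (∀ g : X, g ∈ T ↔ Clifford.conjBy N g θ = θ) ∧ Cfsg.IsIrrCharacter T e ∧
      (∀ n : N, e ⟨n, hNT n.2⟩ = θ n) ∧
      ∀ (s : S) (t : T), e ⟨s • (t : X), hTs s t t.2⟩ = e t := by
  classical
  set T := inertia N θ with hT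
  have hNT : N ≤ T := fun n hn => funext fun m => by
    rw [Clifford.conjBy_apply]
    exact char_isClassFunction (isCharacter_of_isIrr hθ) m ⟨n, hn⟩
  have hTs : ∀ (s : S), ∀ t ∈ T, s • t ∈ T := fun s t ht => funext fun n => by
    have hm : t * (s⁻¹ • (n : X)) * t⁻¹ ∈ N :=
      (inferInstance : N.Normal).conj_mem _ (hNs _ _ n.2) t
    have e : (⟨s • t * (n : X) * (s • t)⁻¹, (inferInstance : N.Normal).conj_mem _ n.2 _⟩ : N) =
        ⟨s • (t * (s⁻¹ • (n : X)) * t⁻¹), hNs s _ hm⟩ :=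
      Subtype.ext (by simp [smul_mul', smul_inv', smul_inv_smul])
    rw [Clifford.conjBy_apply, e]
    refine (hθs s ⟨_, hm⟩).trans ?_
    have h2 := congrFun (show Clifford.conjBy N t θ = θ from ht) ⟨s⁻¹ • (n : X), hNs _ _ n.2⟩
    rw [Clifford.conjBy_apply] at h2
    exact h2.trans (hθs s⁻¹ n)
  letI := GlaubermanSolvable.restrictAct T hTs
  set eq := Subgroup.subgroupOfEquivOfLe hNT
  obtain ⟨e, he, heN, hea⟩ := exists_canonical_extension (p := p) (N.subgroupOf T)
    (hNp.of_equiv eq.symm) (fun h => hidx (h.trans (Subgroup.relIndex_dvd_index_of_normal N T)))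
    ((isIrrCharacter_comp_mulEquiv eq).2 hθ) (fun g => funext fun n => by
      rw [Clifford.conjBy_apply]
      refine Eq.trans ?_ (congrFun (show Clifford.conjBy N (g : X) θ = θ from g.2) (eq n))
      rw [Clifford.conjBy_apply]
      exact congrArg θ (Subtype.ext rfl))
  refine ⟨T, hNT, hTs, e, fun g => Iff.rfl, he, fun n => ?_, fun s t => ?_⟩
  · exact (heN ⟨⟨n, hNT n.2⟩, n.2⟩).trans (congrArg θ (Subtype.ext rfl))
  · exact hea (MulDistribMulAction.toMulEquiv T s) (fun n => hNs s _ n.2) (fun n => hθs s (eq n)) t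

/-- The multiplicities of one invariant character are those of a single invariant one. -/
def Rel (p : ℕ) (S : Type u) [Group S] [MulDistribMulAction S C] [Fintype C] (j : C →* X)
    (χ : X → ℂ) (ξ : C → ℂ) : Prop :=
  ∀ η : C → ℂ, Cfsg.IsIrrCharacter C η → InvFun S η → ∀ m : ℕ,
    Cfsg.classInner (fun c : C => χ (j c)) η = (m : ℂ) →
      (η ≠ ξ → p ∣ m) ∧ (η = ξ → (m : ℤ) ≡ 1 [ZMOD p] ∨ (m : ℤ) ≡ -1 [ZMOD p])

theorem not_dvd_of_pm {m : ℕ} (h : (m : ℤ) ≡ 1 [ZMOD p] ∨ (m : ℤ) ≡ -1 [ZMOD p]) : ¬ p ∣ m := by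
  intro hd
  have hp : p.Prime := Fact.out
  obtain ⟨k, rfl⟩ := hd
  rcases h with h | h <;> rw [Int.modEq_iff_dvd] at h
  · refine hp.one_lt.ne' (Nat.dvd_one.1 (Int.natCast_dvd_natCast.1 ?_))
    have := dvd_add h (show (p : ℤ) ∣ ((p * k : ℕ) : ℤ) from ⟨k, by push_cast; ring⟩)
    rwa [sub_add_cancel, ← Nat.cast_one] at this
  · refine hp.one_lt.ne' (Nat.dvd_one.1 (Int.natCast_dvd_natCast.1 ?_))
    have := dvd_add h (show (p : ℤ) ∣ ((p * k : ℕ) : ℤ) from ⟨k, by push_cast; ring⟩)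
    rwa [sub_add_cancel, dvd_neg, ← Nat.cast_one] at this

include hinj hje hfix hNs hS hNp hidx in
theorem correspondence [Fintype C] [Fintype X] :
    (∀ χ : X → ℂ, Cfsg.IsIrrCharacter X χ → InvFun S χ →
      ∃ ξ : C → ℂ, Cfsg.IsIrrCharacter C ξ ∧ InvFun S ξ ∧ Rel p S j χ ξ) ∧
    (∀ ξ : C → ℂ, Cfsg.IsIrrCharacter C ξ → InvFun S ξ →
      ∃ χ : X → ℂ, Cfsg.IsIrrCharacter X χ ∧ InvFun S χ ∧ Rel p S j χ ξ) ∧
    (∀ χ χ' : X → ℂ, Cfsg.IsIrrCharacter X χ → InvFun S χ → Cfsg.IsIrrCharacter X χ' →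
      InvFun S χ' → ∀ ξ : C → ℂ, Cfsg.IsIrrCharacter C ξ → InvFun S ξ →
      Rel p S j χ ξ → Rel p S j χ' ξ → χ = χ') := by
  classical
  obtain ⟨M, hM⟩ := DefectZeroVanish.exists_modular (Fact.out : p.Prime)
  haveI := Fintype.ofFinite N
  haveI := Fintype.ofFinite (N.comap j)
  refine ⟨fun χ hχ hinv => ?_, fun ξ hξ hξinv => ?_, ?_⟩
  · obtain ⟨θ, hθ, hθs, hover⟩ := exists_inv_constituent hS N hNs hidx hχ hinv
    obtain ⟨T, hNT, hTs, e, hT, he, heN, hes⟩ := exists_setup N hNs hNp hidx hθ hθs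
    obtain ⟨β, β₀, rfl, hc, -⟩ := local_corr j hinj hje N hNs hfix hS hNp hidx θ hθ hθs T hT hNT
      hTs e he heN hes hM hχ hinv hover
    obtain ⟨hθC, hTC⟩ := local_C j hinj N hNs hfix θ hθ T hT
    obtain ⟨hle, heC, heCN⟩ := extC_spec j hinj N hNs hfix θ hθ T hT hNT e he heN
    refine ⟨phi (N.comap j) (T.comap j) (extC j T e) (β₀ : _ → ℂ),
      (phi_spec _ _ _ hθC hTC hle heC (heCN hle) β₀.2).1,
      phiC_inv j hinj hje N hNs hfix θ hθ T hT hNT hTs e he heN hes, fun η hη hηi m hm => ?_⟩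
    exact rel_of_corr j hinj hje N hNs hfix hS hNp hidx θ hθ hθs T hT hNT hTs e he heN hes hM hc
      hη hηi hm
  · obtain ⟨φ, hφ, hφs, hφξ⟩ := exists_inv_constituent hS (N.comap j) (comap_stable j hje N hNs)
      (comap_index j N hidx) hξ hξinv
    have hbij : Function.Bijective (j.subgroupComap N) := by
      refine ⟨fun a b h => Subtype.ext (hinj (congrArg Subtype.val h)), fun n => ?_⟩
      obtain ⟨c, hc⟩ := mem_range_of_mem j N hfix hNs n.2
      exact ⟨⟨c, show j c ∈ N by rw [hc]; exact n.2⟩, Subtype.ext hc⟩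
    set E := MulEquiv.ofBijective _ hbij
    set θ : N → ℂ := fun n => φ (E.symm n) with hθdef
    have hθ : Cfsg.IsIrrCharacter N θ := (isIrrCharacter_comp_mulEquiv E.symm).2 hφ
    have hθs : ∀ (s : S) (n : N), θ ⟨s • (n : X), hNs s n n.2⟩ = θ n := by
      intro s n
      obtain ⟨a, rfl⟩ := E.surjective n
      have e1 : (⟨s • ((E a : N) : X), hNs s _ (E a).2⟩ : N) =
          E ⟨s • (a : C), comap_stable j hje N hNs s a a.2⟩ := Subtype.ext (hje s a).symm
      rw [e1, hθdef]
      simp only [MulEquiv.symm_apply_apply]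
      exact hφs s a
    obtain ⟨T, hNT, hTs, e, hT, he, heN, hes⟩ := exists_setup N hNs hNp hidx hθ hθs
    obtain ⟨hθC, hTC⟩ := local_C j hinj N hNs hfix θ hθ T hT
    obtain ⟨hle, heC, heCN⟩ := extC_spec j hinj N hNs hfix θ hθ T hT hNT e he heN
    have hφθ : thetaC j N θ = φ := funext fun a => congrArg φ (E.symm_apply_apply a)
    obtain ⟨β₀, hβ₀, rfl⟩ := exists_phi (N.comap j) (T.comap j) (extC j T e) hθC hTC hle heC
      (heCN hle) hξ (hφθ ▸ hφξ)
    letI := GlaubermanSolvable.restrictAct T hTs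
    letI := quotAct (N.subgroupOf T) (fun (s : S) t ht => hNs s (t : X) ht)
    obtain ⟨β, hβinv, hc⟩ := Glauberman.exists_inv_corr (iota j N T) (S := S) (iota_injective j N T)
      (iota_fix j N hNs hfix T hTs)
      hM hS (index_subgroupOf N hNs hidx T ∘ fun h => by rwa [Subgroup.index_eq_card])
      ⟨β₀, hβ₀⟩
    refine ⟨phi N T e (β : T ⧸ N.subgroupOf T → ℂ), (phi_spec N T e hθ hT hNT he heN β.2).1,
      fun s x => ?_, fun η hη hηi m hm => ?_⟩
    · refine phi_comp N T e (MulDistribMulAction.toMulEquiv X s)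
        (MulDistribMulAction.toMonoidHom T s) (fun t => rfl) (fun y => ⟨fun hy => ?_, hTs s y⟩)
        (fun t => hes s t) _ _ (fun t => (hβinv s _).symm) x
      have := hTs s⁻¹ _ hy
      rwa [show MulDistribMulAction.toMulEquiv X s y = s • y from rfl, inv_smul_smul] at this
    · exact rel_of_corr j hinj hje N hNs hfix hS hNp hidx θ hθ hθs T hT hNT hTs e he heN hes hM hc
        hη hηi hm
  · intro χ χ' hχ hinv hχ' hinv' ξ hξ hξinv hR hR'
    obtain ⟨θ, hθ, hθs, hover⟩ := exists_inv_constituent hS N hNs hidx hχ hinv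
    obtain ⟨T, hNT, hTs, e, hT, he, heN, hes⟩ := exists_setup N hNs hNp hidx hθ hθs
    obtain ⟨hθC, hTC⟩ := local_C j hinj N hNs hfix θ hθ T hT
    obtain ⟨hle, heC, heCN⟩ := extC_spec j hinj N hNs hfix θ hθ T hT hNT e he heN
    obtain ⟨β, β₀, rfl, hc, hβinv⟩ := local_corr j hinj hje N hNs hfix hS hNp hidx θ hθ hθs T hT
      hNT hTs e he heN hes hM hχ hinv hover
    have hcomp : ∀ {ψ : X → ℂ}, Cfsg.IsIrrCharacter X ψ → ∀ η, Cfsg.IsIrrCharacter C η →
        ∃ m : ℕ, Cfsg.classInner (fun c : C => ψ (j c)) η = (m : ℂ) := fun hψ η hη =>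
      classInner_char_nat (isCharacter_comp j (isCharacter_of_isIrr hψ)) (isCharacter_of_isIrr hη)
    have huniq : ∀ (β₁ : Cfsg.IrrCharacter (T ⧸ N.subgroupOf T))
        (β₂ : Cfsg.IrrCharacter (T.comap j ⧸ (N.comap j).subgroupOf (T.comap j))),
        Glauberman.Corr (iota j N T) M β₁ β₂ →
        Rel p S j (phi N T e (β₁ : T ⧸ N.subgroupOf T → ℂ)) ξ →
        ξ = phi (N.comap j) (T.comap j) (extC j T e) (β₂ : _ → ℂ) := by
      intro β₁ β₂ hc' hr
      by_contra hne
      obtain ⟨m, hm⟩ := hcomp (phi_spec N T e hθ hT hNT he heN β₁.2).1 ξ hξ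
      exact not_dvd_of_pm ((hr ξ hξ hξinv m hm).2 rfl)
        ((rel_of_corr j hinj hje N hNs hfix hS hNp hidx θ hθ hθs T hT hNT hTs e he heN hes hM hc'
          hξ hξinv hm).1 hne)
    have hξ0 := huniq β β₀ hc hR
    -- `χ'` lies over `θ`
    obtain ⟨m, hm⟩ := hcomp hχ' ξ hξ
    have hm0 : (m : ℂ) ≠ 0 := by
      have := not_dvd_of_pm ((hR' ξ hξ hξinv m hm).2 rfl)
      exact_mod_cast fun h => this (by rw [h]; exact dvd_zero p)
    have hξθ : Cfsg.classInner (fun n : N.comap j => ξ n) (thetaC j N θ) ≠ 0 := by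
      rw [hξ0]
      exact phi_over _ _ _ hθC hTC hle heC (heCN hle) β₀.2
    have h4 := Clifford.classInner_restrict_ne_zero (N.comap j)
      (isCharacter_comp j (isCharacter_of_isIrr hχ')) hξ (isCharacter_of_isIrr hθC)
      (show Cfsg.classInner (χ' ∘ j) ξ ≠ 0 by
        rw [show χ' ∘ j = fun c : C => χ' (j c) from rfl, hm]; exact hm0) hξθ
    have hbij : Function.Bijective (j.subgroupComap N) := by
      refine ⟨fun a b h => Subtype.ext (hinj (congrArg Subtype.val h)), fun n => ?_⟩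
      obtain ⟨c, hc⟩ := mem_range_of_mem j N hfix hNs n.2
      exact ⟨⟨c, show j c ∈ N by rw [hc]; exact n.2⟩, Subtype.ext hc⟩
    have hover' : Cfsg.classInner (fun n : N => χ' n) θ ≠ 0 := by
      rw [← Basics.classInner_comp_equiv (MulEquiv.ofBijective _ hbij)]
      exact h4
    obtain ⟨β', β₀', rfl, hc', hβinv'⟩ := local_corr j hinj hje N hNs hfix hS hNp hidx θ hθ hθs T
      hT hNT hTs e he heN hes hM hχ' hinv' hover'
    have h0 : β₀' = β₀ := Subtype.ext (phi_injective _ _ _ hθC hTC hle heC (heCN hle) β₀'.2 β₀.2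
      ((huniq β' β₀' hc' hR').symm.trans hξ0))
    letI := GlaubermanSolvable.restrictAct T hTs
    letI := quotAct (N.subgroupOf T) (fun (s : S) t ht => hNs s (t : X) ht)
    refine congrArg (fun b : Cfsg.IrrCharacter (T ⧸ N.subgroupOf T) =>
      phi N T e (b : T ⧸ N.subgroupOf T → ℂ))
      (Glauberman.corr_injective (iota j N T) (S := S) (iota_injective j N T)
        (iota_fix j N hNs hfix T hTs)
        hM hS (index_subgroupOf N hNs hidx T ∘ fun h => by rwa [Subgroup.index_eq_card])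
        hβinv hβinv' hc (h0 ▸ hc'))

/-- Degrees of corresponding characters agree modulo `p` up to sign. -/
theorem degree_cong [Fintype C] (hS : IsPGroup p S) {χ : X → ℂ} (hχ : Cfsg.IsIrrCharacter X χ)
    (hinv : InvFun S χ) (hje : ∀ (s : S) (c : C), j (s • c) = s • j c) {ξ : C → ℂ}
    (hξ : Cfsg.IsIrrCharacter C ξ) (hξinv : InvFun S ξ) (hR : Rel p S j χ ξ) :
    (Cfsg.charDegree ξ : ZMod p) = (Cfsg.charDegree χ : ZMod p) ∨
      (Cfsg.charDegree ξ : ZMod p) = -(Cfsg.charDegree χ : ZMod p) := by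
  classical
  haveI := Fintype.ofFinite (Cfsg.IrrCharacter C)
  have hc : Cfsg.IsCharacter C (fun c : C => χ (j c)) := isCharacter_comp j (isCharacter_of_isIrr hχ)
  choose n hn using fun η : Cfsg.IrrCharacter C => classInner_char_nat hc (irr_isCharacter η)
  let f : Cfsg.IrrCharacter C → ZMod p := fun η =>
    (n η : ZMod p) * (Cfsg.charDegree (η : C → ℂ) : ZMod p)
  letI : MulAction S (Cfsg.IrrCharacter C) :=
    { smul := fun s η => Glauberman.twist C s⁻¹ η
      one_smul := fun η => Subtype.ext (funext fun c => by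
        show (η : C → ℂ) ((1 : S)⁻¹ • c) = _
        rw [inv_one, one_smul])
      mul_smul := fun s t η => Subtype.ext (funext fun c => by
        show (η : C → ℂ) ((s * t)⁻¹ • c) = (η : C → ℂ) (t⁻¹ • (s⁻¹ • c))
        rw [mul_inv_rev, mul_smul]) }
  have hdeg : (Cfsg.charDegree χ : ZMod p) = ∑ η, f η := by
    have h := congrFun (classFun_eq_sum (char_isClassFunction hc)) 1
    simp only [Finset.sum_apply, Pi.smul_apply, smul_eq_mul, hn, map_one] at h
    have h2 : (Cfsg.charDegree χ : ℂ) =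
        ((∑ η : Cfsg.IrrCharacter C, n η * Cfsg.charDegree (η : C → ℂ) : ℕ) : ℂ) := by
      rw [Nat.cast_sum]
      refine (Blocks.charDegree_cast (⟨χ, hχ⟩ : Cfsg.IrrCharacter X)).trans (h.trans ?_)
      refine Finset.sum_congr rfl fun η _ => ?_
      rw [Nat.cast_mul, Blocks.charDegree_cast]
    rw [Nat.cast_inj] at h2
    rw [h2, Nat.cast_sum]
    simp [f]
  have hfs : ∀ (s : S) (η : Cfsg.IrrCharacter C), f (s • η) = f η := by
    intro s η
    have h1 : n (s • η) = n η := by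
      have := hn (s • η)
      rw [show Cfsg.classInner (fun c : C => χ (j c)) ((s • η : Cfsg.IrrCharacter C) : C → ℂ) =
        Cfsg.classInner (fun c : C => χ (j c)) (η : C → ℂ) from ?_, hn η] at this
      · exact_mod_cast this.symm
      · rw [classInner_def, classInner_def]
        congr 1
        refine (Fintype.sum_equiv (MulDistribMulAction.toMulEquiv C s).toEquiv _ _ fun c => ?_).symm
        show χ (j c) * (starRingEnd ℂ) ((η : C → ℂ) c) =
          χ (j (s • c)) * (starRingEnd ℂ) ((η : C → ℂ) (s⁻¹ • (s • c)))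
        rw [inv_smul_smul, hje, hinv]
    have h2 : Cfsg.charDegree ((s • η : Cfsg.IrrCharacter C) : C → ℂ) =
        Cfsg.charDegree (η : C → ℂ) := by
      show ⌊((η : C → ℂ) (s⁻¹ • (1 : C))).re⌋₊ = ⌊((η : C → ℂ) 1).re⌋₊
      rw [smul_one]
    simp only [f, h1, h2]
  obtain ⟨a, ha⟩ := Blocks.exists_sum_eq_fixed_add hS f hfs
    (Finset.univ.filter fun η => ∀ s : S, s • η = η) (fun η => by simp)
  have hp0 : (p : ℕ) • a = 0 := by rw [nsmul_eq_mul, ZMod.natCast_self, zero_mul]
  rw [hp0, add_zero] at ha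
  have hinvη : ∀ η : Cfsg.IrrCharacter C, (∀ s : S, s • η = η) → InvFun S (η : C → ℂ) := by
    intro η h s c
    have h1 : (η : C → ℂ) (s⁻¹⁻¹ • c) = (η : C → ℂ) c := congrFun (congrArg Subtype.val (h s⁻¹)) c
    rwa [inv_inv] at h1
  have hs1 : ∑ η ∈ Finset.univ.filter (fun η : Cfsg.IrrCharacter C => ∀ s : S, s • η = η), f η =
      f ⟨ξ, hξ⟩ := by
    refine Finset.sum_eq_single_of_mem (⟨ξ, hξ⟩ : Cfsg.IrrCharacter C)
      (Finset.mem_filter.2 ⟨Finset.mem_univ _, fun s => Subtype.ext (funext fun c => hξinv s⁻¹ c)⟩)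
      fun η hη hne => ?_
    have := (hR η η.2 (hinvη η (Finset.mem_filter.1 hη).2) _ (hn η)).1
      fun h => hne (Subtype.ext h)
    simp only [f, (ZMod.natCast_eq_zero_iff _ _).2 this, zero_mul]
  rw [hs1] at ha
  · have hpm := (hR ξ hξ hξinv _ (hn ⟨ξ, hξ⟩)).2 rfl
    rw [← hdeg] at ha
    rcases hpm with h | h
    · left
      have h3 : ((n ⟨ξ, hξ⟩ : ℤ) : ZMod p) = ((1 : ℤ) : ZMod p) :=
        (ZMod.intCast_eq_intCast_iff _ _ p).2 h
      rw [ha]
      simp only [f]
      push_cast at h3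
      rw [h3, one_mul]
    · right
      have h3 : ((n ⟨ξ, hξ⟩ : ℤ) : ZMod p) = ((-1 : ℤ) : ZMod p) :=
        (ZMod.intCast_eq_intCast_iff _ _ p).2 h
      rw [ha]
      simp only [f]
      push_cast at h3
      rw [h3, neg_one_mul, neg_neg]

end Cfsg.Agent.CharTheory.NormalSylow
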